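import Groth.Agent.Cyc90.RelDimBC
import Groth.Agent.E4O.FibreComp
import Groth.Agent.E4O.BaseChangeDim

/-!
# Fibre dimension and base change

Maximal points of fibres of a base change map to maximal points of fibres, with the same `fdeg`;
hence `fibreDimAt` is invariant under base change.
-/

set_option autoImplicit false
universe u

open CategoryTheory CategoryTheory.Limits AlgebraicGeometry

namespace Groth.Agent.FibDim94

variable {P X Y Y' : Scheme.{u}} {p : P ⟶ X} {q : P ⟶ Y'} {f : X ⟶ Y} {g : Y' ⟶ Y}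

/-- Generalizations in a fibre lift along a base change. -/
theorem exists_lift_specializes (hsq : IsPullback p q f g) {w : P} {x' : X} (h : x' ⤳ p w)
    (hf : f x' = f (p w)) : ∃ w', w' ⤳ w ∧ q w' = q w ∧ p w' = x' := by
  obtain ⟨m, hm, -, -, hmι⟩ := E4O.exists_fibre_map_flat hsq (q w)
  obtain ⟨t, ht⟩ := E4O.exists_fiberι_eq q (y := q w) (x := w) rfl
  have hgy : f x' = g (q w) := by
    rw [hf, ← Scheme.Hom.comp_apply, hsq.w, Scheme.Hom.comp_apply]
  obtain ⟨v, hv⟩ := E4O.exists_fiberι_eq f hgy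
  have hvz : v ⤳ m t := by
    refine (E4O.specializes_fiberι_iff f _ _ _).1 ?_
    rw [hmι t, ht, hv]; exact h
  obtain ⟨v', hv', hmv⟩ := Flat.generalizingMap m hvz
  refine ⟨q.fiberι (q w) v', ?_, E4O.apply_fiberι _ _ v', ?_⟩
  · have := (E4O.specializes_fiberι_iff q _ _ _).2 hv'
    rwa [ht] at this
  · rw [← hmι v', hmv, hv]

theorem isFibreMax_image (hsq : IsPullback p q f g) {w : P} (hw : E4O.IsFibreMax q w) :
    E4O.IsFibreMax f (p w) := by
  intro x' hx' hf
  obtain ⟨w', h1, h2, h3⟩ := exists_lift_specializes hsq hx' hf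
  rw [← h3, hw w' h1 h2]

theorem fdeg_eq_of_isFibreMax [LocallyOfFiniteType f] (hsq : IsPullback p q f g) {w : P}
    (hw : E4O.IsFibreMax q w) : E4O.fdeg q w = E4O.fdeg f (p w) := by
  have e1 : E4O.fdeg q w = E4O.fdeg (pullback.snd f g) (hsq.isoPullback.hom w) := by
    rw [← E4O.fdeg_comp_openImmersion hsq.isoPullback.hom (pullback.snd f g) w,
      hsq.isoPullback_hom_snd]
  rw [e1, show p w = pullback.fst f g (hsq.isoPullback.hom w) by
    rw [← Scheme.Hom.comp_apply, hsq.isoPullback_hom_fst]]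
  refine Groth.Agent.Cyc90.fdeg_snd_eq _ fun t _ h2 h3 => ?_
  obtain ⟨t', rfl⟩ : ∃ t', hsq.isoPullback.hom t' = t :=
    ⟨hsq.isoPullback.inv t, by rw [← Scheme.Hom.comp_apply, Iso.inv_hom_id]; rfl⟩
  have h4 : t' ⤳ w := hsq.isoPullback.hom.isOpenEmbedding.isInducing.specializes_iff.mp h3
  have h5 : q t' = q w := by
    rw [← hsq.isoPullback_hom_snd, Scheme.Hom.comp_apply, Scheme.Hom.comp_apply]
    exact h2
  rw [hw t' h4 h5]

theorem fibreDimAt_eq_of_isPullback [LocallyOfFiniteType f] (hsq : IsPullback p q f g) (a : P) :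
    FlatMor.fibreDimAt q a = FlatMor.fibreDimAt f (p a) := by
  have : LocallyOfFiniteType q := MorphismProperty.of_isPullback hsq inferInstance
  have hw : ∀ b c : P, q b = q c → f (p b) = f (p c) := fun b c h => by
    rw [← Scheme.Hom.comp_apply, ← Scheme.Hom.comp_apply, hsq.w, Scheme.Hom.comp_apply,
      Scheme.Hom.comp_apply, h]
  refine le_antisymm ?_ ?_
  · obtain ⟨w, hwa, hqw, -, hd, -⟩ := E4O.exists_isFibreMax_specializes q a
    rw [hd]
    refine le_trans ?_ (E4O.fdeg_le_fibreDimAt (hwa.map p.continuous) (hw _ _ hqw))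
    exact_mod_cast E4O.fdeg_le_of_isPullback hsq w
  · obtain ⟨z, hza, hfz, hzmax, hd, -⟩ := E4O.exists_isFibreMax_specializes f (p a)
    obtain ⟨b, hba, hqb, hpb⟩ := exists_lift_specializes hsq hza hfz
    obtain ⟨w, hwb, hqw, hwmax, -, -⟩ := E4O.exists_isFibreMax_specializes q b
    have hpw : p w = z :=
      hzmax _ (hpb ▸ hwb.map p.continuous) (hpb ▸ hw _ _ hqw)
    rw [hd, ← hpw, ← fdeg_eq_of_isFibreMax hsq hwmax]
    exact E4O.fdeg_le_fibreDimAt (hwb.trans hba) (hqw.trans hqb)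

theorem hasRelDim_of_isPullback [LocallyOfFiniteType f] (hsq : IsPullback p q f g) {d : ℕ}
    (hd : Cyc.HasRelDim f d) : Cyc.HasRelDim q d := by
  have : LocallyOfFiniteType q := MorphismProperty.of_isPullback hsq inferInstance
  intro y T hT
  obtain ⟨z, -, hmax, hdim⟩ := E4O.exists_of_mem_irreducibleComponents_fiber q hT
  rw [hdim, fdeg_eq_of_isFibreMax hsq hmax,
    Groth.Agent.Cyc90.fdeg_eq_of_hasRelDim f hd (isFibreMax_image hsq hmax)]

end Groth.Agent.FibDim94
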