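import Groth.Agent.E4O.ValuationLift
import Groth.Agent.Unr55.StalkCrit
import Mathlib.RingTheory.Flat.TorsionFree
import Mathlib.RingTheory.Localization.BaseChange

/-!
# Fibre dimension along generizations at a flat point
-/

universe u

open CategoryTheory AlgebraicGeometry Limits
open scoped TensorProduct

namespace Groth.Agent.FibDim94

open Groth.Agent.E4O

/-- Generizations in a valuation ring lift to a prime at which the algebra is flat. -/
theorem exists_le_comap_eq_bot {A B V : Type u} [CommRing A] [CommRing B] [CommRing V] [IsDomain V]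
    [Algebra A B] [Algebra A V] (q : Ideal B) [q.IsPrime]
    [Module.Flat A (Localization.AtPrime q)] (Q : Ideal (B ⊗[A] V)) [Q.IsPrime]
    (hQl : Q.comap Algebra.TensorProduct.includeLeftRingHom = q) :
    ∃ w : Ideal (B ⊗[A] V), w.IsPrime ∧ w ≤ Q ∧
      w.comap (Algebra.TensorProduct.includeRight : V →ₐ[A] B ⊗[A] V).toRingHom = ⊥ := by
  classical
  obtain ⟨w, hw, hwQ⟩ := Ideal.exists_minimalPrimes_le (I := (⊥ : Ideal (B ⊗[A] V))) (J := Q) bot_le
  have hwp : w.IsPrime := hw.1.1
  refine ⟨w, hwp, hwQ, ?_⟩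
  rw [eq_bot_iff]
  intro v hv
  rw [Ideal.mem_bot]
  by_contra hv0
  set S := B ⊗[A] V
  set iv : S := (Algebra.TensorProduct.includeRight : V →ₐ[A] B ⊗[A] V) v with hiv
  have hvw : iv ∈ w := hv
  -- `iv` is nilpotent at `w`
  have : Ring.KrullDimLE 0 (Localization.AtPrime w) :=
    Ring.KrullDimLE.of_isLocalization w hw (Localization.AtPrime w)
  have hnil : IsNilpotent (algebraMap S (Localization.AtPrime w) iv) := by
    rw [Ring.KrullDimLE.isNilpotent_iff_mem_nonunits, mem_nonunits_iff]
    intro hu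
    exact (IsLocalization.AtPrime.isUnit_to_map_iff (Localization.AtPrime w) w iv).mp hu hvw
  obtain ⟨n, hn⟩ := hnil
  rw [← map_pow] at hn
  obtain ⟨⟨s, hs⟩, hs0⟩ := (IsLocalization.map_eq_zero_iff w.primeCompl (Localization.AtPrime w) _).mp hn
  -- push to the localization at `q`
  let Bq := Localization.AtPrime q
  let r : S →ₗ[B] Bq ⊗[A] V := TensorProduct.AlgebraTensorModule.rTensor A V (Algebra.linearMap B Bq)
  have key : ∀ (m : ℕ) (t : S), r (t * iv ^ m) =
      LinearMap.lTensor Bq (LinearMap.mul A V (v ^ m)) (r t) := by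
    intro m t
    induction t using TensorProduct.induction_on with
    | zero => simp
    | tmul b x =>
      have e : (b ⊗ₜ[A] x : S) * iv ^ m = b ⊗ₜ[A] (v ^ m * x) := by
        rw [hiv, Algebra.TensorProduct.includeRight_apply, Algebra.TensorProduct.tmul_pow, one_pow,
          Algebra.TensorProduct.tmul_mul_tmul, mul_one, mul_comm]
      rw [e]
      rfl
    | add t t' h h' => rw [add_mul, map_add, h, h', map_add, map_add]
  have hinj : Function.Injective (LinearMap.lTensor Bq (LinearMap.mul A V (v ^ n))) :=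
    Module.Flat.lTensor_preserves_injective_linearMap _ fun x y h => mul_left_cancel₀ (pow_ne_zero n hv0) h
  have hr : r s = 0 := hinj (by rw [← key, hs0, map_zero, map_zero])
  obtain ⟨⟨b, hb⟩, hb0⟩ := (IsLocalizedModule.eq_zero_iff q.primeCompl r).mp hr
  have hbQ : (b ⊗ₜ[A] (1 : V) : S) ∉ w := fun h => hb (hQl.le (hwQ h))
  have hbs : (b ⊗ₜ[A] (1 : V) : S) * s = 0 := by
    rw [Submonoid.smul_def] at hb0
    rw [← hb0, Algebra.smul_def]
    rfl
  exact (hwp.mem_or_mem (hbs.symm ▸ w.zero_mem)).elim hbQ hs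

variable {X Y : Scheme.{u}}

set_option backward.isDefEq.respectTransparency.types false in
theorem flat_localization_of_chart {A B : Type u} [CommRing A] [CommRing B] [Algebra A B]
    (f : X ⟶ Y) (e : Spec (CommRingCat.of B) ⟶ X) (j : Spec (CommRingCat.of A) ⟶ Y)
    [IsOpenImmersion e] [IsOpenImmersion j]
    (comm : e ≫ f = Spec.map (CommRingCat.ofHom (algebraMap A B)) ≫ j) (q : PrimeSpectrum B)
    (h : (f.stalkMap (e q)).hom.Flat) : Module.Flat A (Localization.AtPrime q.asIdeal) := by
  rw [Groth.Agent.Unr55.stalkMap_iff_of_square (P := RingHom.Flat) RingHom.Flat.respectsIso f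
    (Spec.map (CommRingCat.ofHom (algebraMap A B))) e j comm q] at h
  have h2 := (RingHom.Flat.respectsIso.arrow_mk_iso_iff
    (Scheme.arrowStalkMapSpecIso (CommRingCat.ofHom (algebraMap A B)) q)).mp h
  exact (Groth.Agent.Unr55.localRingHom_flat_iff q.asIdeal).mp h2

/-- EGA IV 14.2.3 without openness: at a point where the morphism is flat, every generization of
the image is the image of a generization at least as large in its fibre. -/
theorem exists_fdeg_ge_of_flat_stalk (f : X ⟶ Y) [LocallyOfFiniteType f] {x : X}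
    (h : (f.stalkMap x).hom.Flat) {y' : Y} (hy' : y' ⤳ f x) :
    ∃ ξ : X, f ξ = y' ∧ ξ ⤳ x ∧ fdeg f x ≤ fdeg f ξ := by
  obtain ⟨C, ⟨q, rfl⟩, -⟩ := exists_chart f x
  rw [C.apply] at hy'
  obtain ⟨p', rfl⟩ := hy'.mem_open C.isOpenEmbedding_ptY.isOpen_range ⟨_, rfl⟩
  have hpq : p'.asIdeal ≤ q.asIdeal.under C.A := (C.specializesY_iff _ _).1 hy'
  let Ap := Localization.AtPrime (q.asIdeal.under C.A)
  let r : Ap →+* p'.asIdeal.ResidueField := IsLocalization.lift (M := (q.asIdeal.under C.A).primeCompl)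
    (g := algebraMap C.A p'.asIdeal.ResidueField) fun s => by
      refine Ne.isUnit fun h0 => s.2 (hpq (Ideal.algebraMap_residueField_eq_zero.1 h0))
  obtain ⟨W, hW, hWloc⟩ := IsLocalRing.exists_factor_valuationRing r
  let V := W
  let av : C.A →+* V := (r.codRestrict W.toSubring fun z => hW z).comp (algebraMap C.A Ap)
  have hker : RingHom.ker av = p'.asIdeal := by
    ext a
    rw [RingHom.mem_ker, ← Ideal.algebraMap_residueField_eq_zero]
    refine ⟨fun h0 => ?_, fun h0 => Subtype.ext ?_⟩
    · have := congrArg Subtype.val h0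
      exact (IsLocalization.lift_eq _ a).symm.trans this
    · exact (IsLocalization.lift_eq _ a).trans h0
  let _ : Algebra C.A V := av.toAlgebra
  have hVp : (IsLocalRing.maximalIdeal V).comap (algebraMap C.A V) = q.asIdeal.under C.A := by
    rw [RingHom.algebraMap_toAlgebra, ← Ideal.comap_comap,
      show (IsLocalRing.maximalIdeal V).comap (r.codRestrict W.toSubring fun z => hW z) =
        IsLocalRing.maximalIdeal Ap from
      ((IsLocalRing.local_hom_TFAE _).out 0 4 rfl rfl).1 hWloc]
    exact IsLocalization.AtPrime.under_maximalIdeal Ap _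
  have hflat : Module.Flat C.A (Localization.AtPrime q.asIdeal) := flat_localization_of_chart f C.e C.j C.comm q h
  obtain ⟨q', hq', hq'q, hq'p, hle⟩ := exists_trdeg_ge_of_valuationRing (A := C.A) (B := C.B) (V := V)
    q.asIdeal hVp fun Q _ hQl _ => exists_le_comap_eq_bot q.asIdeal Q hQl
  refine ⟨C.pt ⟨q', hq'⟩, ?_, (C.specializes_iff _ _).2 hq'q, ?_⟩
  · rw [C.apply]
    exact congrArg C.ptY (PrimeSpectrum.ext (hq'p.trans hker))
  · have h1 := C.trdeg_eq_fdeg ⟨q', hq'⟩
    rw [C.trdeg_eq_fdeg, h1] at hle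
    exact_mod_cast hle


end Groth.Agent.FibDim94
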