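import Groth.Agent.Cyc90.FlatRelDim
import Groth.Agent.FibDim94.FlatPoint
import Groth.Agent.Div89.PushDepth
import Groth.Agent.E4O.FibreComp

/-!
# Fibre dimension of a composition
-/

set_option autoImplicit false
universe u

open CategoryTheory CategoryTheory.Limits AlgebraicGeometry

namespace Groth.Agent.FibDim94

variable {X Y Z : Scheme.{u}}

theorem fdeg_comp (f : X ⟶ Y) (g : Y ⟶ Z) [LocallyOfFiniteType f] [LocallyOfFiniteType g] (x : X) :
    E4O.fdeg (f ≫ g) x = E4O.fdeg f x + E4O.fdeg g (f x) := by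
  have h1 := Cyc90.trdeg_residueField_eq_fdeg f x
  have h2 := Cyc90.trdeg_residueField_eq_fdeg g (f x)
  have h3 := Cyc90.trdeg_residueField_eq_fdeg (f ≫ g) x
  let K := Z.residueField (g (f x)); let L := Y.residueField (f x); let M := X.residueField x
  letI aKL : Algebra K L := (g.residueFieldMap (f x)).hom.toAlgebra
  letI aLM : Algebra L M := (f.residueFieldMap x).hom.toAlgebra
  letI aKM : Algebra K M := ((f ≫ g).residueFieldMap x).hom.toAlgebra
  have : IsScalarTower K L M := IsScalarTower.of_algebraMap_eq' (by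
    change ((f ≫ g).residueFieldMap x).hom = _
    rw [Scheme.residueFieldMap_comp]
    rfl)
  have h : Algebra.trdeg K L + Algebra.trdeg L M = Algebra.trdeg K M := trdeg_add_eq K L (A := M)
  rw [h1, h2] at h
  have h4 := h.trans h3
  rw [← Nat.cast_add] at h4
  have := Nat.cast_injective h4
  omega

theorem fibreDimAt_comp_le (f : X ⟶ Y) (g : Y ⟶ Z) [LocallyOfFiniteType f] [LocallyOfFiniteType g]
    (x : X) :
    FlatMor.fibreDimAt (f ≫ g) x ≤ FlatMor.fibreDimAt f x + FlatMor.fibreDimAt g (f x) := by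
  obtain ⟨w, hwx, hw, hd, -, -⟩ := E4O.exists_fibreDimAt_eq (f ≫ g) x
  rw [hd, fdeg_comp, Nat.cast_add]
  refine add_le_add (E4O.fdeg_le_fibreDimAt_of_specializes hwx)
    (E4O.fdeg_le_fibreDimAt (hwx.map f.continuous) ?_)
  rw [← Scheme.Hom.comp_apply, hw, Scheme.Hom.comp_apply]

theorem fibreDimAt_comp_eq_of_flat (f : X ⟶ Y) (g : Y ⟶ Z) [LocallyOfFiniteType f]
    [LocallyOfFiniteType g] (x : X) (h : (f.stalkMap x).hom.Flat) :
    FlatMor.fibreDimAt (f ≫ g) x = FlatMor.fibreDimAt f x + FlatMor.fibreDimAt g (f x) := by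
  refine le_antisymm (fibreDimAt_comp_le f g x) ?_
  obtain ⟨v, hvx, hfv, hd, -, -⟩ := E4O.exists_fibreDimAt_eq f x
  obtain ⟨z, hzy, hgz, he, -, -⟩ := E4O.exists_fibreDimAt_eq g (f x)
  have hv : (f.stalkMap v).hom.Flat := by
    haveI hY : IsIso (Y.presheaf.stalkSpecializes (hvx.map f.continuous)) :=
      (Y.presheaf.stalkCongr (Inseparable.of_eq hfv).symm).isIso_hom
    have h1 : (f.stalkMap x ≫ X.presheaf.stalkSpecializes hvx).hom.Flat := by
      rw [CommRingCat.hom_comp]
      exact RingHom.Flat.comp h (Groth.Agent.Div89.flat_stalkSpecializes hvx)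
    rw [show f.stalkMap x ≫ X.presheaf.stalkSpecializes hvx =
      Y.presheaf.stalkSpecializes (hvx.map f.continuous) ≫ f.stalkMap v from
      (Scheme.Hom.stalkSpecializes_stalkMap f v x hvx).symm] at h1
    exact (RingHom.Flat.respectsIso.cancel_left_isIso _ _).mp h1
  obtain ⟨u, hfu, huv, hle⟩ := exists_fdeg_ge_of_flat_stalk f hv (y' := z) (hfv ▸ hzy)
  rw [hd, he, ← Nat.cast_add]
  refine le_trans ?_ (E4O.fdeg_le_fibreDimAt (huv.trans hvx) (f := f ≫ g) ?_)
  · rw [fdeg_comp, hfu]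
    exact_mod_cast Nat.add_le_add_right hle _
  · rw [Scheme.Hom.comp_apply, Scheme.Hom.comp_apply, hfu, hgz]

end Groth.Agent.FibDim94
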